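import Groth.Prelude.Def_AffAlg
import Mathlib.AlgebraicGeometry.Sites.SmallAffineZariski
import Mathlib.AlgebraicGeometry.Morphisms.ClosedImmersion

/-!
Morphisms into a scheme affine over the base correspond to homomorphisms of direct-image algebras.
-/

universe u

open CategoryTheory CategoryTheory.Limits AlgebraicGeometry TopologicalSpace Opposite

namespace Groth.Agent.RelSpecX

variable {X Y Z S : Scheme.{u}}

lemma preimage_eq (f : X ⟶ S) (g : Y ⟶ S) (h : Y ⟶ X) (w : h ≫ f = g) (U : S.Opens) :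
    g ⁻¹ᵁ U = h ⁻¹ᵁ (f ⁻¹ᵁ U) := by subst w; rfl

lemma algHom_app (f : X ⟶ S) (g : Y ⟶ S) (h : Y ⟶ X) (w : h ≫ f = g) (U : S.Opens) :
    (AffAlg.algHom f g h w).app (op U) =
      h.appLE (f ⁻¹ᵁ U) (g ⁻¹ᵁ U) (preimage_eq f g h w U).le := by
  subst w
  show h.app (f ⁻¹ᵁ U) ≫ 𝟙 _ = _
  rw [Category.comp_id]
  exact h.app_eq_appLE

lemma algHom_id (f : X ⟶ S) : AffAlg.algHom f f (𝟙 X) (Category.id_comp f) = 𝟙 _ := by
  refine NatTrans.ext (funext fun V => ?_)
  obtain ⟨U⟩ := V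
  rw [algHom_app]
  show _ = 𝟙 Γ(X, f ⁻¹ᵁ U)
  refine (Category.id_comp _).trans ?_
  exact (congrArg X.presheaf.map (Subsingleton.elim _ (𝟙 (op (f ⁻¹ᵁ U))))).trans (X.presheaf.map_id _)

lemma algHom_comp (f : X ⟶ S) (g : Y ⟶ S) (k : Z ⟶ S) (h : Y ⟶ X) (w : h ≫ f = g)
    (h' : Z ⟶ Y) (w' : h' ≫ g = k) :
    AffAlg.algHom f k (h' ≫ h) (by rw [Category.assoc, w, w']) =
      AffAlg.algHom f g h w ≫ AffAlg.algHom g k h' w' := by
  refine NatTrans.ext (funext fun V => ?_)
  obtain ⟨U⟩ := V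
  rw [NatTrans.comp_app, algHom_app, algHom_app, algHom_app]
  exact (Scheme.Hom.appLE_comp_appLE h' h _ _ _ _ _).symm

/-- Maps of presheaves into a pushforward of a structure sheaf agree if they agree on affine opens. -/
lemma hom_ext_affine {F : TopCat.Presheaf CommRingCat.{u} S.carrier} (g : Y ⟶ S)
    {α β : F ⟶ AffAlg.alg g}
    (h : ∀ (U : S.Opens), IsAffineOpen U → α.app (op U) = β.app (op U)) : α = β := by
  apply (Functor.IsCoverDense.restrictHomEquivHom (G := Scheme.AffineZariskiSite.toOpensFunctor S)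
    (K := Opens.grothendieckTopology S) (ℱ := F)
    (ℱ' := (⟨AffAlg.alg g, TopCat.Sheaf.pushforward_sheaf_of_sheaf _ Y.sheaf.property⟩ :
      TopCat.Sheaf CommRingCat.{u} S.carrier))).symm.injective
  ext U : 2
  exact h U.unop.1 U.unop.2

variable (f : X ⟶ S) [IsAffineHom f] (g : Y ⟶ S)

lemma hom_restrict (h : Y ⟶ X) (w : h ≫ f = g) (U : S.affineOpens) :
    (g ⁻¹ᵁ U.1).ι ≫ h = (g ⁻¹ᵁ U.1).toSpecΓ ≫
      Spec.map (h.appLE (f ⁻¹ᵁ U.1) (g ⁻¹ᵁ U.1) (preimage_eq f g h w U.1).le) ≫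
        (U.2.preimage f).fromSpec := by
  rw [Scheme.Opens.toSpecΓ_SpecMap_appLE_assoc, (U.2.preimage f).toSpecΓ_fromSpec,
    Scheme.Hom.resLE_comp_ι]

lemma algHom_injective {h h' : Y ⟶ X} (w : h ≫ f = g) (w' : h' ≫ f = g)
    (e : ∀ U : S.affineOpens, (AffAlg.algHom f g h w).app (op U.1) =
      (AffAlg.algHom f g h' w').app (op U.1)) : h = h' := by
  refine Scheme.Cover.hom_ext (Y.openCoverOfIsOpenCover _
    (.comap (iSup_affineOpens_eq_top S) g.base.1)) _ _ fun U => ?_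
  show (g ⁻¹ᵁ U.1).ι ≫ h = (g ⁻¹ᵁ U.1).ι ≫ h'
  rw [hom_restrict f g h w U, hom_restrict f g h' w' U]
  have := e U
  rw [algHom_app, algHom_app] at this
  rw [this]

variable (ω : AffAlg.algHoms f g)

set_option backward.defeqAttrib.useBackward true in
set_option backward.isDefEq.respectTransparency false in
/-- The morphism attached to a homomorphism of direct-image algebras. -/
noncomputable def ofAlgHom : Y ⟶ X :=
  Scheme.OpenCover.glueMorphismsOfLocallyDirected
    ((Scheme.AffineZariskiSite.directedCover S).pullback₁ g)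
    (fun U ↦ (pullbackRestrictIsoRestrict g _).hom ≫
      (g ⁻¹ᵁ U.1).toSpecΓ ≫ Spec.map (ω.1.app (op U.1)) ≫ (U.2.preimage f).fromSpec)
    fun {U V : S.AffineZariskiSite} i ↦ by
  have hUV := Scheme.AffineZariskiSite.toOpens_mono i.1.1
  have : (pullbackRestrictIsoRestrict g U.1).inv ≫
      Scheme.Cover.trans ((Scheme.AffineZariskiSite.directedCover S).pullback₁ g) i ≫
      (pullbackRestrictIsoRestrict g V.1).hom = Y.homOfLE (g.preimage_mono hUV) := by
    rw [← cancel_mono (Scheme.Opens.ι _)]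
    simp +instances [Scheme.Cover.trans, Scheme.Cover.locallyDirectedPullbackCover]
  rw [← Iso.inv_comp_eq, reassoc_of% this, ← Scheme.Opens.toSpecΓ_SpecMap_presheaf_map_assoc]
  congr 1
  rw [← Spec.map_comp_assoc,
    ← (V.2.preimage f).map_fromSpec (U.2.preimage f) (homOfLE (f.preimage_mono hUV)).op,
    ← Spec.map_comp_assoc]
  exact congrArg (fun e => Spec.map e ≫ (V.2.preimage f).fromSpec)
    (ω.1.naturality (homOfLE hUV).op).symm

set_option backward.isDefEq.respectTransparency.types false in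
set_option backward.defeqAttrib.useBackward true in
lemma ι_ofAlgHom (U : S.affineOpens) :
    (g ⁻¹ᵁ U.1).ι ≫ ofAlgHom f g ω = (g ⁻¹ᵁ U.1).toSpecΓ ≫
      Spec.map (ω.1.app (op U.1)) ≫ (U.2.preimage f).fromSpec := by
  rw [← cancel_epi (pullbackRestrictIsoRestrict g U.1).hom, ← Category.assoc]
  trans ((Scheme.AffineZariskiSite.directedCover S).pullback₁ g).f U ≫ ofAlgHom f g ω
  · congr 1; simp
  delta ofAlgHom
  generalize_proofs _ _ _ _ _ H
  exact Scheme.OpenCover.map_glueMorphismsOfLocallyDirected _ _ H _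

lemma fromSpec_comp_structure (U : S.affineOpens) :
    (U.2.preimage f).fromSpec ≫ f = Spec.map (f.app U.1) ≫ U.2.fromSpec := by
  rw [← IsAffineOpen.SpecMap_appLE_fromSpec f U.2 (U.2.preimage f) le_rfl,
    Scheme.Hom.app_eq_appLE]

lemma ofAlgHom_comp : ofAlgHom f g ω ≫ f = g := by
  refine Scheme.Cover.hom_ext (Y.openCoverOfIsOpenCover _
    (.comap (iSup_affineOpens_eq_top S) g.base.1)) _ _ fun U => ?_
  show (g ⁻¹ᵁ U.1).ι ≫ ofAlgHom f g ω ≫ f = (g ⁻¹ᵁ U.1).ι ≫ g
  rw [← Category.assoc, ι_ofAlgHom, Category.assoc, Category.assoc, fromSpec_comp_structure f U,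
    ← Spec.map_comp_assoc]
  have hω : f.app U.1 ≫ ω.1.app (op U.1) = g.app U.1 := NatTrans.congr_app ω.2 (op U.1)
  rw [hω, Scheme.Opens.toSpecΓ_naturality_assoc, U.2.toSpecΓ_fromSpec, morphismRestrict_ι]

lemma appLE_ofAlgHom (U : S.affineOpens) (e) :
    (ofAlgHom f g ω).appLE (f ⁻¹ᵁ U.1) (g ⁻¹ᵁ U.1) e = ω.1.app (op U.1) := by
  have h1 := (hom_restrict f g (ofAlgHom f g ω) (ofAlgHom_comp f g ω) U).symm.trans
    (ι_ofAlgHom f g ω U)
  rw [← Category.assoc, ← Category.assoc] at h1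
  replace h1 := (cancel_mono _).mp h1
  have h2 := congrArg Scheme.Hom.appTop h1
  rw [Scheme.Hom.comp_appTop, Scheme.Hom.comp_appTop, Scheme.Opens.toSpecΓ_appTop] at h2
  simp only [← Category.assoc] at h2
  replace h2 := (cancel_mono _).mp h2
  rw [Scheme.ΓSpecIso_naturality, Scheme.ΓSpecIso_naturality] at h2
  exact (cancel_epi _).mp h2

lemma algHom_ofAlgHom : AffAlg.algHom f g (ofAlgHom f g ω) (ofAlgHom_comp f g ω) = ω.1 :=
  hom_ext_affine g fun U hU => by
    rw [algHom_app]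
    exact appLE_ofAlgHom f g ω ⟨U, hU⟩ _

lemma algOf_bijective : Function.Bijective (AffAlg.algOf f g) :=
  ⟨fun h h' e => Subtype.ext (algHom_injective f g h.2 h'.2 fun U =>
      congrArg (fun α => α.1.app (op U.1)) e),
    fun ω => ⟨⟨ofAlgHom f g ω, ofAlgHom_comp f g ω⟩, Subtype.ext (algHom_ofAlgHom f g ω)⟩⟩

lemma isIso_iff [IsAffineHom g] (h : Y ⟶ X) (w : h ≫ f = g) :
    IsIso h ↔ IsIso (AffAlg.algHom f g h w) := by
  constructor
  · intro hh
    have w' : inv h ≫ g = f := by rw [← w, IsIso.inv_hom_id_assoc]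
    refine ⟨⟨AffAlg.algHom g f (inv h) w', ?_, ?_⟩⟩
    · rw [← algHom_comp f g f h w (inv h) w']
      simp only [IsIso.inv_hom_id]
      exact algHom_id f
    · rw [← algHom_comp g f g (inv h) w' h w]
      simp only [IsIso.hom_inv_id]
      exact algHom_id g
  · intro hω
    have hc : g.c ≫ inv (AffAlg.algHom f g h w) = f.c := by
      rw [IsIso.comp_inv_eq, AffAlg.algHom_comm]
    let ω' : AffAlg.algHoms g f := ⟨inv (AffAlg.algHom f g h w), hc⟩
    refine ⟨⟨ofAlgHom g f ω', ?_, ?_⟩⟩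
    · refine algHom_injective g g (by rw [Category.assoc, ofAlgHom_comp, w]) (Category.id_comp g)
        fun U => ?_
      rw [algHom_comp g f g (ofAlgHom g f ω') (ofAlgHom_comp g f ω') h w, algHom_ofAlgHom,
        algHom_id]
      exact NatTrans.congr_app (IsIso.inv_hom_id _) _
    · refine algHom_injective f f (by rw [Category.assoc, w, ofAlgHom_comp]) (Category.id_comp f)
        fun U => ?_
      rw [algHom_comp f g f h w (ofAlgHom g f ω') (ofAlgHom_comp g f ω'), algHom_ofAlgHom,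
        algHom_id]
      exact NatTrans.congr_app (IsIso.hom_inv_id _) _

lemma isClosedImmersion_of_surjective [IsAffineHom g] (h : Y ⟶ X) (w : h ≫ f = g)
    (hsurj : ∀ U : S.affineOpens, Function.Surjective ((AffAlg.algHom f g h w).app (op U.1)).hom) :
    IsClosedImmersion h := by
  refine IsZariskiLocalAtTarget.of_iSup_eq_top (P := @IsClosedImmersion)
    (fun U : S.affineOpens => f ⁻¹ᵁ U.1) (IsOpenCover.comap (iSup_affineOpens_eq_top S) f.base.1)
    fun U => ?_
  have : IsAffine (f ⁻¹ᵁ U.1).toScheme := U.2.preimage f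
  have : IsAffine (h ⁻¹ᵁ (f ⁻¹ᵁ U.1)).toScheme := by
    rw [← preimage_eq f g h w U.1]
    exact U.2.preimage g
  refine IsClosedImmersion.of_surjective_of_isAffine _ ?_
  have e1 : Function.Surjective (h.app (f ⁻¹ᵁ U.1)).hom := by
    have hs := hsurj U
    rw [algHom_app] at hs
    subst w
    rw [Scheme.Hom.app_eq_appLE]
    exact hs
  rw [morphismRestrict_appTop]
  have e2 : ∀ {A B : X.Opens} (e : A = B), Function.Surjective (h.app A).hom →
      Function.Surjective (h.app B).hom := fun e hA => e ▸ hA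
  have e3 := e2 (Scheme.Opens.ι_image_top (f ⁻¹ᵁ U.1)).symm e1
  show Function.Surjective ((Y.presheaf.map
      (eqToHom (image_morphismRestrict_preimage h (f ⁻¹ᵁ U.1) ⊤)).op).hom ∘
    (h.app ((f ⁻¹ᵁ U.1).ι ''ᵁ ⊤)).hom)
  exact (ConcreteCategory.bijective_of_isIso
    (Y.presheaf.map (eqToHom (image_morphismRestrict_preimage h (f ⁻¹ᵁ U.1) ⊤)).op)).2.comp e3

end Groth.Agent.RelSpecX
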