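import Groth.Prelude.Def_RelSpec
import Mathlib.CategoryTheory.Sites.DenseSubsite.Basic

/-!
The direct image algebra of a relative spectrum is the algebra.
-/

universe u

open CategoryTheory CategoryTheory.Limits AlgebraicGeometry TopologicalSpace Opposite

namespace Groth.Agent.RelSpecX

variable {S : Scheme.{u}} (A : RelSpec.QCAlg S)

lemma isIso_appLE_of_le_range {X Y : Scheme.{u}} (f : X ⟶ Y) [IsOpenImmersion f] (W : Y.Opens)
    (V : X.Opens) (hW : W ≤ f.opensRange) (hV : V = f ⁻¹ᵁ W) :
    IsIso (f.appLE W V hV.le) := by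
  subst hV
  have := Scheme.Hom.isIso_app f W hW
  rw [← Scheme.Hom.app_eq_appLE]
  infer_instance

lemma isIso_gammaAff (U : S.Opens) (hU : IsAffineOpen U) : IsIso (A.gammaAff U hU) := by
  have h1 : IsIso ((A.ι U hU).appLE (A.π ⁻¹ᵁ U) ⊤ (A.top_le_preimage U hU)) :=
    isIso_appLE_of_le_range _ _ _ (A.π_preimage U hU).le
      (le_antisymm (A.top_le_preimage U hU) le_top)
  exact inferInstanceAs (IsIso (_ ≫ _))

instance isIso_gammaMap : IsIso A.gammaMap := by
  let α : (⟨A.π.base _* A.spec.presheaf,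
      TopCat.Sheaf.pushforward_sheaf_of_sheaf _ A.spec.sheaf.property⟩ :
        Sheaf (Opens.grothendieckTopology S) CommRingCat.{u}) ⟶ ⟨A.presheaf, A.isSheaf⟩ :=
    ⟨A.gammaMap⟩
  have : IsIso α := by
    apply Functor.IsCoverDense.iso_of_restrict_iso (G := Scheme.AffineZariskiSite.toOpensFunctor S)
    show IsIso ((Scheme.AffineZariskiSite.toOpensFunctor S).op.whiskerLeft A.gammaMap)
    rw [A.gammaMap_restrict]
    have : ∀ V, IsIso (A.gammaRestrict.app V) := fun V => isIso_gammaAff A V.unop.1 V.unop.2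
    exact NatIso.isIso_of_isIso_app _
  exact inferInstanceAs (IsIso ((sheafToPresheaf _ _).map α))

end Groth.Agent.RelSpecX
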