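import Groth.Prelude.Def_RelProj4
import Groth.Agent.RelSpecX.AffHom
import Groth.Agent.RelSpecX.Gamma

/-!
Charts of relative spectra, morphisms attached to semilinear algebra maps, base change.
-/

universe u

open CategoryTheory CategoryTheory.Limits AlgebraicGeometry TopologicalSpace Opposite

namespace Groth.Agent.RelSpecX

lemma spec_hom_eq {R : CommRingCat.{u}} {X : Scheme.{u}} (j : Spec R ⟶ X) {W : X.Opens}
    (hW : IsAffineOpen W) (e : ⊤ ≤ j ⁻¹ᵁ W) :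
    j = Spec.map (j.appLE W ⊤ e ≫ (Scheme.ΓSpecIso R).hom) ≫ hW.fromSpec := by
  have h := IsAffineOpen.SpecMap_appLE_fromSpec j hW (isAffineOpen_top _) e
  rw [IsAffineOpen.fromSpec_top, Scheme.isoSpec_Spec_inv] at h
  rw [Spec.map_comp, Category.assoc, h, ← Spec.map_comp_assoc, Iso.inv_hom_id, Spec.map_id,
    Category.id_comp]

variable {S S' : Scheme.{u}}

lemma ι_eq (A : RelSpec.QCAlg S) (U : S.Opens) (hU : IsAffineOpen U) :
    A.ι U hU = Spec.map (A.gammaAff U hU) ≫ (hU.preimage A.π).fromSpec :=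
  spec_hom_eq (A.ι U hU) (hU.preimage A.π) (A.top_le_preimage U hU)

lemma map_gammaAff (A : RelSpec.QCAlg S) {U V : S.Opens} (hV : IsAffineOpen V) (h : V ≤ U) :
    A.spec.presheaf.map (homOfLE (A.π.preimage_mono h)).op ≫ A.gammaAff V hV =
      A.gammaMap.app (op U) ≫ A.presheaf.map (homOfLE h).op := by
  rw [← A.gammaMap_app V hV]
  exact A.gammaMap.naturality (homOfLE h).op

lemma top_le_preimage' (A : RelSpec.QCAlg S) {U V : S.Opens} (hV : IsAffineOpen V) (h : V ≤ U) :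
    ⊤ ≤ A.ι V hV ⁻¹ᵁ (A.π ⁻¹ᵁ U) :=
  (A.top_le_preimage V hV).trans ((A.ι V hV).preimage_mono (A.π.preimage_mono h))

lemma ι_appLE_mono (A : RelSpec.QCAlg S) {U V : S.Opens} (hV : IsAffineOpen V) (h : V ≤ U) :
    (A.ι V hV).appLE (A.π ⁻¹ᵁ U) ⊤ (top_le_preimage' A hV h) ≫ (Scheme.ΓSpecIso _).hom =
      A.gammaMap.app (op U) ≫ A.presheaf.map (homOfLE h).op := by
  rw [← map_gammaAff A hV h, RelSpec.QCAlg.gammaAff, ← Category.assoc]
  congr 1
  exact (Scheme.Hom.map_appLE (A.ι V hV) (A.top_le_preimage V hV)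
    (homOfLE (A.π.preimage_mono h)).op).symm

lemma ι_res_le (A : RelSpec.QCAlg S) {U V : S.Opens} (hU : IsAffineOpen U) (hV : IsAffineOpen V)
    (h : V ≤ U) : Spec.map (A.presheaf.map (homOfLE h).op) ≫ A.ι U hU = A.ι V hV := by
  conv_rhs => rw [spec_hom_eq (A.ι V hV) (hU.preimage A.π) (top_le_preimage' A hV h),
    ι_appLE_mono A hV h, A.gammaMap_app U hU, Spec.map_comp, Category.assoc, ← ι_eq A U hU]

/-- Morphisms out of a relative spectrum agree if they agree on charts over a cover. -/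
lemma spec_hom_ext {B : RelSpec.QCAlg S} {T : Scheme.{u}} {v v' : B.spec ⟶ T}
    (H : ∀ y : S, ∃ (U : S.Opens) (hU : IsAffineOpen U), y ∈ U ∧ B.ι U hU ≫ v = B.ι U hU ≫ v') :
    v = v' := by
  choose U hU hy hv using H
  refine Scheme.Cover.hom_ext (B.spec.openCoverOfIsOpenCover (fun y : S => B.π ⁻¹ᵁ U y)
    (IsOpenCover.comap (v := U) (eq_top_iff.mpr fun y _ => Opens.mem_iSup.mpr ⟨y, hy y⟩) B.π.base.1))
    _ _ fun y => ?_
  show (B.π ⁻¹ᵁ U y).ι ≫ v = (B.π ⁻¹ᵁ U y).ι ≫ v'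
  have hr : Set.range (B.π ⁻¹ᵁ U y).ι = Set.range (B.ι (U y) (hU y)) := by
    rw [Scheme.Opens.range_ι, B.π_preimage (U y) (hU y)]
    rfl
  rw [← IsOpenImmersion.isoOfRangeEq_hom_fac (B.π ⁻¹ᵁ U y).ι (B.ι (U y) (hU y)) hr,
    Category.assoc, Category.assoc, hv y]

variable (q : S' ⟶ S)

/-- There are affine pairs around every point. -/
lemma exists_pair (y : S') : ∃ (U : S.Opens) (_ : IsAffineOpen U) (U' : S'.Opens)
    (_ : IsAffineOpen U'), y ∈ U' ∧ U' ≤ q ⁻¹ᵁ U := by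
  obtain ⟨_, ⟨U, hU, rfl⟩, hyU, -⟩ := S.isBasis_affineOpens.exists_subset_of_mem_open
    (Set.mem_univ (q y)) isOpen_univ
  obtain ⟨_, ⟨U', hU', rfl⟩, hyU', hle⟩ := S'.isBasis_affineOpens.exists_subset_of_mem_open
    (show y ∈ (q ⁻¹ᵁ U : Set S') from hyU) (q ⁻¹ᵁ U).isOpen
  exact ⟨U, hU, U', hU', hyU', hle⟩

variable {q} (B : RelSpec.QCAlg S) (B' : RelSpec.QCAlg S')

/-- A morphism of relative spectra satisfies the chart equations of `u`. -/
def IsChartMap (u : B.presheaf ⟶ q.base _* B'.presheaf) (v : B'.spec ⟶ B.spec) : Prop :=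
  ∀ (U : S.Opens) (hU : IsAffineOpen U) (U' : S'.Opens) (hU' : IsAffineOpen U') (hle : U' ≤ q ⁻¹ᵁ U),
    B'.ι U' hU' ≫ v =
      Spec.map ((u.app (op U) : B.presheaf.obj (op U) ⟶ B'.presheaf.obj (op (q ⁻¹ᵁ U))) ≫
        B'.presheaf.map (homOfLE hle).op) ≫ B.ι U hU

variable {B B'} {u : B.presheaf ⟶ q.base _* B'.presheaf}

lemma isChartMap_unique {v v' : B'.spec ⟶ B.spec} (hv : IsChartMap B B' u v)
    (hv' : IsChartMap B B' u v') : v = v' :=
  spec_hom_ext fun y => by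
    obtain ⟨U, hU, U', hU', hy, hle⟩ := exists_pair q y
    exact ⟨U', hU', hy, (hv U hU U' hU' hle).trans (hv' U hU U' hU' hle).symm⟩

lemma isChartMap_comp {v : B'.spec ⟶ B.spec}
    (hu : B.str ≫ u = q.c ≫ (TopCat.Presheaf.pushforward CommRingCat.{u} q.base).map B'.str)
    (hv : IsChartMap B B' u v) : v ≫ B.π = B'.π ≫ q :=
  spec_hom_ext fun y => by
    obtain ⟨U, hU, U', hU', hy, hle⟩ := exists_pair q y
    refine ⟨U', hU', hy, ?_⟩
    rw [reassoc_of% (hv U hU U' hU' hle), B.ι_π, ← Spec.map_comp_assoc,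
      reassoc_of% (B'.ι_π U' hU'), ← IsAffineOpen.SpecMap_appLE_fromSpec q hU hU' hle,
      ← Spec.map_comp_assoc]
    congr 2
    have h0 : B.str.app (op U) ≫ u.app (op U) = q.app U ≫ B'.str.app (op (q ⁻¹ᵁ U)) :=
      NatTrans.congr_app hu (op U)
    rw [reassoc_of% h0, Scheme.Hom.appLE, Category.assoc]
    exact congrArg (q.app U ≫ ·) (B'.str.naturality (homOfLE hle).op).symm

lemma exists_isChartMap
    (hu : B.str ≫ u = q.c ≫ (TopCat.Presheaf.pushforward CommRingCat.{u} q.base).map B'.str) :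
    ∃ v : B'.spec ⟶ B.spec, IsChartMap B B' u v ∧ v ≫ B.π = B'.π ≫ q := by
  let ω : B.π.base _* B.spec.presheaf ⟶ AffAlg.alg (B'.π ≫ q) :=
    B.gammaMap ≫ u ≫ (TopCat.Presheaf.pushforward CommRingCat.{u} q.base).map (inv B'.gammaMap)
  have hinv : B'.str ≫ inv B'.gammaMap = B'.π.c := by
    rw [IsIso.comp_inv_eq]; exact B'.π_c_gammaMap.symm
  have hω : B.π.c ≫ ω = (B'.π ≫ q).c := by
    simp only [ω]
    rw [reassoc_of% B.π_c_gammaMap, reassoc_of% hu]
    exact congrArg (q.c ≫ ·) (((TopCat.Presheaf.pushforward CommRingCat.{u} q.base).map_comp _ _).symm.trans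
      (congrArg (TopCat.Presheaf.pushforward CommRingCat.{u} q.base).map hinv))
  let Ω : AffAlg.algHoms B.π (B'.π ≫ q) := ⟨ω, hω⟩
  refine ⟨ofAlgHom B.π (B'.π ≫ q) Ω, ?_, ofAlgHom_comp _ _ _⟩
  intro U hU U' hU' hle
  set v := ofAlgHom B.π (B'.π ≫ q) Ω
  have hv : B'.π ⁻¹ᵁ (q ⁻¹ᵁ U) ≤ v ⁻¹ᵁ (B.π ⁻¹ᵁ U) :=
    (preimage_eq B.π (B'.π ≫ q) v (ofAlgHom_comp _ _ _) U).le
  have e : ⊤ ≤ (B'.ι U' hU' ≫ v) ⁻¹ᵁ (B.π ⁻¹ᵁ U) :=
    (top_le_preimage' B' hU' hle).trans ((B'.ι U' hU').preimage_mono hv)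
  rw [spec_hom_eq (B'.ι U' hU' ≫ v) (hU.preimage B.π) e, ι_eq B U hU, ← Spec.map_comp_assoc]
  congr 2
  rw [← Scheme.Hom.appLE_comp_appLE (B'.ι U' hU') v _ _ _ hv (top_le_preimage' B' hU' hle),
    Category.assoc, ι_appLE_mono B' hU' hle]
  refine (congrArg (· ≫ _) (appLE_ofAlgHom B.π (B'.π ≫ q) Ω ⟨U, hU⟩ hv)).trans ?_
  show (B.gammaMap.app (op U) ≫ u.app (op U) ≫ (inv B'.gammaMap).app (op (q ⁻¹ᵁ U))) ≫
      B'.gammaMap.app (op (q ⁻¹ᵁ U)) ≫ _ = _
  rw [B.gammaMap_app U hU]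
  simp only [Category.assoc]
  exact congrArg (B.gammaAff U hU ≫ ·) (congrArg (u.app (op U) ≫ ·)
    ((asIso B'.gammaMap).inv_hom_id_app_assoc (op (q ⁻¹ᵁ U)) _))

variable {A : RelSpec.QCAlg S}

/-- A semilinear map of algebras as a map of presheaves. -/
@[simps]
def qHomPresheaf (u : RelSpec.QHom q A B') : A.presheaf ⟶ q.base _* B'.presheaf where
  app U := u.app U.unop
  naturality U V i := by
    rw [show i = (homOfLE i.unop.le).op from Subsingleton.elim _ _]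
    exact (u.naturality i.unop.le).symm

lemma qHomPresheaf_str (u : RelSpec.QHom q A B') :
    A.str ≫ qHomPresheaf u = q.c ≫ (TopCat.Presheaf.pushforward CommRingCat.{u} q.base).map B'.str :=
  NatTrans.ext (funext fun U => u.str_app U.unop)

lemma isSpecQMap_comp {u : RelSpec.QHom q A B'} {h : B'.spec ⟶ A.spec}
    (hh : RelSpec.IsSpecQMap u h) : h ≫ A.π = B'.π ≫ q :=
  isChartMap_comp (u := qHomPresheaf u) (qHomPresheaf_str u) hh

lemma exists_isSpecQMap (u : RelSpec.QHom q A B') :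
    ∃ h : B'.spec ⟶ A.spec, RelSpec.IsSpecQMap u h :=
  let ⟨v, hv, _⟩ := exists_isChartMap (u := qHomPresheaf u) (qHomPresheaf_str u)
  ⟨v, hv⟩

lemma isPullback_ι (U : S.Opens) (hU : IsAffineOpen U) :
    IsPullback (A.ι U hU) (Spec.map (A.str.app (op U))) A.π hU.fromSpec :=
  (IsOpenImmersion.isPullback (Spec.map (A.str.app (op U))) (A.ι U hU) hU.fromSpec A.π (A.ι_π U hU)
    (by rw [hU.opensRange_fromSpec]; exact A.π_preimage U hU)).flip

lemma isPullback_of_isQBaseChange {u : RelSpec.QHom q A B'} (hu : RelSpec.IsQBaseChange u)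
    {h : B'.spec ⟶ A.spec} (hh : RelSpec.IsSpecQMap u h) : IsPullback h B'.π A.π q := by
  refine IsPullback.of_iso_pullback ⟨isSpecQMap_comp hh⟩
    (@asIso _ _ _ _ (pullback.lift h B'.π (isSpecQMap_comp hh)) ?_)
    (pullback.lift_fst _ _ _) (pullback.lift_snd _ _ _)
  set c := pullback.lift h B'.π (isSpecQMap_comp hh)
  choose U hU U' hU' hy hle using exists_pair q
  refine (IsZariskiLocalAtTarget.iff_of_iSup_eq_top (P := MorphismProperty.isomorphisms Scheme.{u})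
    (f := c) (fun y => pullback.snd A.π q ⁻¹ᵁ U' y)
    (IsOpenCover.comap (v := U') (eq_top_iff.mpr fun y _ => Opens.mem_iSup.mpr ⟨y, hy y⟩)
      (pullback.snd A.π q).base.1)).mpr fun y => ?_
  have hout : IsPullback (B'.ι (U' y) (hU' y) ≫ h) (Spec.map (B'.str.app (op (U' y)))) A.π
      ((hU' y).fromSpec ≫ q) := by
    rw [hh (U y) (hU y) (U' y) (hU' y) (hle y),
      ← IsAffineOpen.SpecMap_appLE_fromSpec q (hU y) (hU' y) (hle y)]
    exact (isPullback_SpecMap_of_isPushout _ _ _ _ (hu (U y) (hU y) (U' y) (hU' y) (hle y))).flip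
      |>.paste_horiz (isPullback_ι (U y) (hU y))
  have hk : IsPullback (B'.ι (U' y) (hU' y) ≫ c) (Spec.map (B'.str.app (op (U' y))))
      (pullback.snd A.π q) (hU' y).fromSpec :=
    IsPullback.of_right (by rw [Category.assoc, pullback.lift_fst]; exact hout)
      (by rw [Category.assoc, pullback.lift_snd, B'.ι_π])
      (IsPullback.of_hasPullback A.π q)
  set V := pullback.snd A.π q ⁻¹ᵁ U' y
  have : IsOpenImmersion (B'.ι (U' y) (hU' y) ≫ c) := MorphismProperty.of_isPullback hk.flip inferInstance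
  have hrange : Set.range (B'.ι (U' y) (hU' y) ≫ c) = Set.range V.ι := by
    rw [← hk.isoPullback_hom_fst, Scheme.Opens.range_ι]
    simp only [Scheme.Hom.comp_base, TopCat.hom_comp, ContinuousMap.coe_comp]
    rw [Set.range_comp, Set.range_eq_univ.mpr, Set.image_univ, Scheme.Pullback.range_fst,
      (hU' y).range_fromSpec]
    · rfl
    · exact hk.isoPullback.hom.surjective
  have hpre : c ⁻¹ᵁ V = B'.π ⁻¹ᵁ U' y := by
    show (c ≫ pullback.snd A.π q) ⁻¹ᵁ U' y = _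
    rw [pullback.lift_snd]
  have hr' : Set.range (c ⁻¹ᵁ V).ι = Set.range (B'.ι (U' y) (hU' y)) := by
    rw [Scheme.Opens.range_ι, hpre, B'.π_preimage (U' y) (hU' y)]
    rfl
  show IsIso (c ∣_ V)
  have key : c ∣_ V = (IsOpenImmersion.isoOfRangeEq (c ⁻¹ᵁ V).ι (B'.ι (U' y) (hU' y)) hr').hom ≫
      (IsOpenImmersion.isoOfRangeEq (B'.ι (U' y) (hU' y) ≫ c) V.ι hrange).hom := by
    rw [← cancel_mono V.ι, morphismRestrict_ι, Category.assoc,
      IsOpenImmersion.isoOfRangeEq_hom_fac, IsOpenImmersion.isoOfRangeEq_hom_fac_assoc]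
  rw [key]
  infer_instance

end Groth.Agent.RelSpecX
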